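import Cfsg.Agent.Lib.Helper3.M11o.L1D
import Cfsg.Agent.Lib.Helper3.M11o.Net

set_option autoImplicit false
set_option maxRecDepth 100000

namespace Cfsg.Agent.Lib.Helper3.M11o.L1

open Cfsg.Agent.Lib.Helper11 Cfsg.Agent.Lib.Helper3

set_option maxHeartbeats 0
set_option Elab.async false

noncomputable def fc (i : ℕ) : ℕ := (fc0_0 i)
noncomputable def sc (i : ℕ) : ℕ := (sc0_0 i)
noncomputable def nc (i : ℕ) : ℕ := (nc0_0 i)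
noncomputable def cc (i : ℕ) : ℕ := (cc0_0 i)

def isH (l : ℕ) : Bool := decide (l ∈ [4, 5])
def gens : List ℕ := [1, 2]
def hl : List ℕ := [4, 5]
def dl : List (List ℕ × ℕ) := [([2], 3), ([1], 4), ([3, 1, 2, 1, 2, 1, 2, 1, 2, 1, 3], 6), ([6], 5), ([4], 7), ([5, 4, 5, 4, 6, 4, 6], 8)]
def BR_0 : List (List ℕ) := [[], [1, 4], [3, 1, 2, 1, 2, 1, 2, 1, 2, 1, 3, 6], [5, 4, 5, 4, 6, 4, 6, 8], [2, 2, 2, 2, 2], [3, 3, 3, 3, 3], [1, 2, 1, 2, 1, 2, 1, 2, 1, 2, 1, 2, 1, 2, 1, 2, 1, 2, 1, 2, 1, 2], [1, 2, 2, 1, 2, 2, 1, 2, 2, 1, 2, 2, 1, 2, 2, 1, 2, 2, 1, 2, 2, 1, 2, 2], [1, 3, 3, 1, 3, 3, 1, 3, 3, 1, 3, 3, 1, 3, 3, 1, 3, 3, 1, 3, 3, 1, 3, 3], [1, 2, 1, 3, 1, 2, 1, 3, 1, 2, 1, 3, 1, 2, 1, 3, 1, 2, 1, 3, 1, 2, 1, 3], [1, 3, 3, 3, 1, 3, 3, 3, 1, 3, 3, 3, 1, 3, 3, 3, 1, 3, 3, 3, 1,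 3, 3, 3, 1, 3, 3, 3, 1, 3, 3, 3], [3, 1, 3, 1, 2, 1, 2, 8, 5, 4, 5, 5, 4, 5, 4], [2, 1, 2, 2, 1, 3, 3, 8, 5, 5], [2, 1, 3, 3, 1, 2, 1, 3, 1, 2, 8, 5, 5, 4, 5]]
def BR : List (List ℕ) := BR_0
set_option maxRecDepth 10000000 in
noncomputable def rt : RT := (.node 19 (.node 9 (.node 4 (.node 2 (.node 1 (.leaf 0 0 []) (.leaf 4 2 [2, 2, 2, 2, 2])) (.node 3 (.leaf 2 5 [1, 2, 1, 2, 1, 3, 6, 3, 1, 2, 1, 2]) (.leaf 2 11 [6, 3, 1, 2, 1, 2, 1, 2, 1, 2, 1, 3]))) (.node 6 (.node 5 (.leaf 1 1 [4, 1]) (.leaf 1 0 [1, 4])) (.node 7 (.leaf 3 7 [8, 5, 4, 5, 4, 6, 4, 6]) (.node 8 (.leaf 11 3 [1, 2, 1, 2, 8, 5, 4, 5, 5, 4, 5, 4, 3, 1, 3]) (.leaf 12 3 [2, 1, 3, 3, 8, 5, 5, 2, 1, 2]))))) (.node 14 (.node 11 (.node 10 (.leaf 4 1 [2, 2, 2, 2, 2]) (.leaf 13 5 [2, 1, 3, 1, 2, 8, 5, 5, 4, 5, 2,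 1, 3, 3, 1])) (.node 12 (.leaf 4 3 [2, 2, 2, 2, 2]) (.node 13 (.leaf 6 5 [2, 1, 2, 1, 2, 1, 2, 1, 2, 1, 2, 1, 2, 1, 2, 1, 2, 1, 2, 1, 2, 1]) (.leaf 9 18 [1, 3, 1, 2, 1, 3, 1, 2, 1, 3, 1, 2, 1, 3, 1, 2, 1, 3, 1, 2, 1, 3, 1, 2])))) (.node 16 (.node 15 (.leaf 12 7 [8, 5, 5, 2, 1, 2, 2, 1, 3, 3]) (.leaf 7 13 [2, 2, 1, 2, 2, 1, 2, 2, 1, 2, 2, 1, 2, 2, 1, 2, 2, 1, 2, 2, 1, 2, 2, 1])) (.node 17 (.leaf 13 12 [5, 4, 5, 2, 1, 3, 3, 1, 2, 1, 3, 1, 2, 8, 5]) (.node 18 (.leaf 12 5 [3, 3, 8, 5, 5, 2, 1, 2, 2, 1]) (.leaf 5 4 [3, 3, 3, 3, 3])))))) (.node 29 (.node 24 (.node 21 (.node 20 (.leaf 13 14 [5, 2, 1, 3, 3, 1, 2, 1, 3, 1, 2, 8, 5, 5, 4]) (.leaf 2 0 [3, 1, 2, 1, 2, 1, 2, 1, 2, 1, 3, 6])) (.node 22 (.leaf 8 20 [3, 1, 3, 3, 1, 3, 3, 1, 3, 3, 1, 3, 3, 1, 3, 3, 1, 3, 3, 1, 3, 3,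 1, 3]) (.node 23 (.leaf 9 16 [1, 2, 1, 3, 1, 2, 1, 3, 1, 2, 1, 3, 1, 2, 1, 3, 1, 2, 1, 3, 1, 2, 1, 3]) (.leaf 10 20 [1, 3, 3, 3, 1, 3, 3, 3, 1, 3, 3, 3, 1, 3, 3, 3, 1, 3, 3, 3, 1, 3, 3, 3, 1, 3, 3, 3, 1, 3, 3, 3])))) (.node 26 (.node 25 (.leaf 10 10 [3, 3, 1, 3, 3, 3, 1, 3, 3, 3, 1, 3, 3, 3, 1, 3, 3, 3, 1, 3, 3, 3, 1, 3, 3, 3, 1, 3, 3, 3, 1, 3]) (.leaf 2 4 [2, 1, 2, 1, 2, 1, 3, 6, 3, 1, 2, 1])) (.node 27 (.leaf 12 9 [5, 2, 1, 2, 2, 1, 3, 3, 8, 5]) (.node 28 (.leaf 13 10 [8, 5, 5, 4, 5, 2, 1, 3, 3, 1, 2, 1, 3, 1, 2]) (.leaf 11 7 [8, 5, 4, 5, 5, 4, 5, 4, 3, 1, 3, 1, 2, 1, 2]))))) (.node 34 (.node 31 (.node 30 (.leaf 11 13 [5, 4, 3, 1, 3, 1, 2, 1, 2, 8, 5, 4, 5, 5, 4]) (.leaf 12 6 [3, 8, 5, 5, 2, 1, 2, 2, 1, 3])) (.node 32 (.leaf 9 7 [3, 1, 2, 1, 3, 1, 2, 1, 3, 1, 2, 1,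 3, 1, 2, 1, 3, 1, 2, 1, 3, 1, 2, 1]) (.node 33 (.leaf 10 6 [3, 3, 1, 3, 3, 3, 1, 3, 3, 3, 1, 3, 3, 3, 1, 3, 3, 3, 1, 3, 3, 3, 1, 3, 3, 3, 1, 3, 3, 3, 1, 3]) (.leaf 7 20 [2, 1, 2, 2, 1, 2, 2, 1, 2, 2, 1, 2, 2, 1, 2, 2, 1, 2, 2, 1, 2, 2, 1, 2])))) (.node 36 (.node 35 (.leaf 13 4 [1, 2, 1, 3, 1, 2, 8, 5, 5, 4, 5, 2, 1, 3, 3]) (.leaf 2 3 [1, 2, 1, 2, 1, 2, 1, 3, 6, 3, 1, 2])) (.node 37 (.leaf 13 6 [1, 3, 1, 2, 8, 5, 5, 4, 5, 2, 1, 3, 3, 1, 2]) (.node 38 (.leaf 10 24 [1, 3, 3, 3, 1, 3, 3, 3, 1, 3, 3, 3, 1, 3, 3, 3, 1, 3, 3, 3, 1, 3, 3, 3, 1, 3, 3, 3, 1, 3, 3, 3]) (.leaf 12 4 [1, 3, 3, 8, 5, 5, 2, 1, 2, 2])))))))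

theorem b0 : allR (guardB 1 (blk fc sc rt.get Cfsg.Agent.Lib.Helper3.M11o.INV isH)) 1 0 = true := by decide +kernel
theorem c0 : allR (guardB 2 (cblk fc nc cc 256 55 79228162514264337593543950336 gens)) 1 0 = true := by decide +kernel

theorem chkAll : ∀ j < 1, blk fc sc rt.get Cfsg.Agent.Lib.Helper3.M11o.INV isH j = true :=
  guardB_spec (D := 1) b0 (by norm_num)

theorem clAll : ∀ jb < 2, cblk fc nc cc (256 * 1) 55 79228162514264337593543950336 gens jb = true :=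
  guardB_spec (D := 1) c0 (by norm_num)

theorem hid_0 : BR_0.all (wordId (ntOf Cfsg.Agent.Lib.Helper3.M11o.ntl) 6) = true := by decide +kernel
theorem hid : BR.all (wordId (ntOf Cfsg.Agent.Lib.Helper3.M11o.ntl) 6) = true := by
  simp only [BR, List.all_append, hid_0, Bool.and_self]

theorem card_eq : Nat.card (lgrp (vL Cfsg.Agent.Lib.Helper3.M11o.ntl Cfsg.Agent.Lib.Helper3.M11o.deg) gens) = 55 * Nat.card (lgrp (vL Cfsg.Agent.Lib.Helper3.M11o.ntl Cfsg.Agent.Lib.Helper3.M11o.deg) hl) :=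
  Cfsg.Agent.Lib.Helper3.M11o.setup.level gens hl dl BR (by decide +kernel) (by decide +kernel) hid (by decide +kernel)
    (by decide +kernel) rt (by decide +kernel) isH (fun l h => of_decide_eq_true h) fc sc nc cc 1 2 55 79228162514264337593543950336
    (by norm_num) (by norm_num) (by decide +kernel) (by decide) chkAll clAll
    0 0 8 (by norm_num [Cfsg.Agent.Lib.Helper3.M11o.deg]) (by norm_num [Cfsg.Agent.Lib.Helper3.M11o.deg]) (by decide +kernel) (by decide +kernel)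

theorem ub {M : Type*} [Group M] (w : ℕ → M) (h0 : w 0 = 1) (hinv : ∀ l, w (invL Cfsg.Agent.Lib.Helper3.M11o.INV l) = (w l)⁻¹)
    (hBR : ∀ r ∈ BR, (r.map w).prod = 1)
    (hdlr : ∀ r ∈ dl.map (fun p => p.1 ++ [p.2]), (r.map w).prod = 1) (N : ℕ) (hN : Bd w hl N) :
    Bd w gens (55 * N) :=
  level_bd w Cfsg.Agent.Lib.Helper3.M11o.INV h0 hinv gens hl dl BR (by decide +kernel) hdlr hBR (by decide +kernel) (by decide +kernel)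
    rt (by decide +kernel) isH (fun l h => of_decide_eq_true h) fc sc nc cc 1 2 55 79228162514264337593543950336
    (by norm_num) (by norm_num) (by decide +kernel) (by decide) chkAll clAll N hN

end Cfsg.Agent.Lib.Helper3.M11o.L1
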